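import Mathlib.LinearAlgebra.Basis.VectorSpace
import Mathlib.LinearAlgebra.Matrix.Adjugate
import Mathlib.LinearAlgebra.Matrix.Charpoly.LinearMap
import Mathlib.LinearAlgebra.TensorProduct.Tower
import Mathlib.LinearAlgebra.TensorProduct.Quotient
import Mathlib.RingTheory.Localization.BaseChange
import Mathlib.RingTheory.TensorProduct.Finite
import Mathlib.Algebra.Module.Projective
import Mathlib.Algebra.Polynomial.Inductions
import Mathlib.RingTheory.Localization.FractionRing
import Mathlib.RingTheory.Flat.Basic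

/-!
# Split injections into projective modules, detected on a residue field

`k` is a field and an `A`-algebra in which every element is a fraction of images of elements
of `A` (for instance a residue field of `A`, or `A ⧸ m` for a maximal ideal `m`).
-/

universe u

open TensorProduct Function

namespace GrothLib.SplitInj

variable {A : Type u} [CommRing A] (k : Type u) [Field k] [Algebra A k]

/-- Every element of `k` is a fraction of images of elements of `A`. -/
def IsFrac (A : Type u) [CommRing A] (k : Type u) [Field k] [Algebra A k] : Prop :=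
  ∀ z : k, ∃ r s : A, algebraMap A k s ≠ 0 ∧ z * algebraMap A k s = algebraMap A k r

variable {M N : Type u} [AddCommGroup M] [Module A M] [AddCommGroup N] [Module A N]

theorem exists_common_denom (hk : IsFrac A k) {ι : Type*} (t : Finset ι) (f : ι → k) :
    ∃ D : A, algebraMap A k D ≠ 0 ∧ ∀ i ∈ t, ∃ r : A, f i * algebraMap A k D = algebraMap A k r := by
  classical
  choose r s hs hrs using hk
  refine ⟨∏ i ∈ t, s (f i), ?_, fun i hi => ⟨r (f i) * ∏ j ∈ t.erase i, s (f j), ?_⟩⟩
  · rw [map_prod]
    exact Finset.prod_ne_zero_iff.2 fun i _ => hs _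
  · rw [← Finset.mul_prod_erase t _ hi, map_mul, ← mul_assoc, hrs, map_mul]

/-- Vectors of a projective module which are independent in the residue field have dual functionals,
up to a denominator. -/
theorem exists_dual (hk : IsFrac A k) [Module.Projective A N] {σ : Type u} [Fintype σ] [DecidableEq σ]
    (v : σ → N) (hv : LinearIndependent k (fun i => (1 : k) ⊗ₜ[A] v i)) :
    ∃ (d : A) (φ : σ → N →ₗ[A] A), algebraMap A k d ≠ 0 ∧
      ∀ i j, φ j (v i) = if i = j then d else 0 := by
  classical
  obtain ⟨s, hs⟩ := (Module.projective_def (R := A) (P := N)).1 inferInstance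
  let L₀ : N →ₗ[A] (N →₀ k) := (Finsupp.mapRange.linearMap (Algebra.linearMap A k)) ∘ₗ s
  let L : k ⊗[A] N →ₗ[k] (N →₀ k) := L₀.liftBaseChange k
  let R : (N →₀ k) →ₗ[k] k ⊗[A] N := Finsupp.linearCombination k (fun n => (1 : k) ⊗ₜ[A] n)
  have hRL : ∀ m : N, R (L₀ m) = 1 ⊗ₜ[A] m := fun m => by
    have hsm := hs m
    rw [Finsupp.linearCombination_apply] at hsm
    conv_rhs => rw [← hsm, Finsupp.sum, TensorProduct.tmul_sum]
    simp only [R, L₀, LinearMap.comp_apply, Finsupp.linearCombination_apply,
      Finsupp.mapRange.linearMap_apply]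
    rw [Finsupp.sum_mapRange_index (fun n => zero_smul k ((1 : k) ⊗ₜ[A] n))]
    refine Finset.sum_congr rfl fun n _ => ?_
    simp [TensorProduct.tmul_smul]
  have hLinj : Injective L := by
    refine LeftInverse.injective (g := R) fun z => ?_
    induction z using TensorProduct.induction_on with
    | zero => simp
    | add a b ha hb => rw [map_add, map_add, ha, hb]
    | tmul c m =>
      rw [LinearMap.liftBaseChange_tmul, map_smul, hRL, TensorProduct.smul_tmul', smul_eq_mul, mul_one]
  have hli : LinearIndependent k (fun i => L₀ (v i)) := by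
    have h1 := hv.map' L (LinearMap.ker_eq_bot.2 hLinj)
    simpa [Function.comp_def, L] using h1
  obtain ⟨g, hg⟩ := (Fintype.linearCombination k (fun i => L₀ (v i))).exists_leftInverse_of_injective
    (LinearMap.ker_eq_bot.2 hli.fintypeLinearCombination_injective)
  have hg' : ∀ i, g (L₀ (v i)) = Pi.single i 1 := fun i => by
    have h1 := LinearMap.congr_fun hg (Pi.single i 1)
    rw [LinearMap.comp_apply, Fintype.linearCombination_apply_single, one_smul] at h1
    exact h1
  let P : Finset N := Finset.univ.biUnion fun i => (s (v i)).support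
  obtain ⟨D, hD, hDr⟩ := exists_common_denom k hk ((Finset.univ : Finset σ) ×ˢ P)
    fun x => g (Finsupp.single x.2 1) x.1
  have hr : ∀ j n, ∃ r : A, n ∈ P → g (Finsupp.single n 1) j * algebraMap A k D = algebraMap A k r := by
    intro j n
    by_cases hn : n ∈ P
    · obtain ⟨r, hr⟩ := hDr (j, n) (Finset.mem_product.2 ⟨Finset.mem_univ j, hn⟩)
      exact ⟨r, fun _ => hr⟩
    · exact ⟨0, fun h => absurd h hn⟩
  choose r hr using hr
  let ψ : σ → N →ₗ[A] A := fun j => Finsupp.linearCombination A (r j) ∘ₗ s
  have hψ : ∀ i j, algebraMap A k (ψ j (v i)) = if i = j then algebraMap A k D else 0 := by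
    intro i j
    have hL₀ : L₀ (v i) = ∑ n ∈ (s (v i)).support, algebraMap A k (s (v i) n) • Finsupp.single n (1 : k) := by
      ext m
      simp only [L₀, LinearMap.comp_apply, Finsupp.mapRange.linearMap_apply, Finsupp.mapRange_apply,
        Finsupp.coe_finset_sum, Finset.sum_apply, Finsupp.smul_apply, Finsupp.single_apply, smul_eq_mul,
        mul_ite, mul_one, mul_zero, Finset.sum_ite_eq', Algebra.linearMap_apply]
      split_ifs with h
      · rfl
      · rw [Finsupp.notMem_support_iff.1 h, map_zero]
    have h1 := congrFun (hg' i) j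
    rw [hL₀, map_sum, Finset.sum_apply] at h1
    have h2 : algebraMap A k (ψ j (v i)) = (Pi.single i (1 : k) : σ → k) j * algebraMap A k D := by
      rw [← h1, Finset.sum_mul]
      simp only [ψ, LinearMap.comp_apply, Finsupp.linearCombination_apply, Finsupp.sum, map_sum]
      refine Finset.sum_congr rfl fun n hn => ?_
      simp only [smul_eq_mul, map_mul, map_smul, Pi.smul_apply]
      rw [mul_assoc, hr j n (Finset.mem_biUnion.2 ⟨i, Finset.mem_univ i, hn⟩)]
    rw [h2, Pi.single_apply]
    rcases eq_or_ne i j with rfl | hij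
    · simp
    · simp [hij, Ne.symm hij]
  let G : Matrix σ σ A := Matrix.of fun l i => ψ l (v i)
  refine ⟨G.det, fun j => ∑ l, G.adjugate j l • ψ l, ?_, fun i j => ?_⟩
  · rw [RingHom.map_det, show (algebraMap A k).mapMatrix G = Matrix.diagonal fun _ : σ => algebraMap A k D by
      ext l i
      simp only [RingHom.mapMatrix_apply, Matrix.map_apply, G, Matrix.of_apply, hψ, Matrix.diagonal_apply]
      rcases eq_or_ne i l with rfl | h
      · simp
      · simp [h, Ne.symm h],
      Matrix.det_diagonal]
    exact Finset.prod_ne_zero_iff.2 fun _ _ => hD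
  · have h1 := congrFun (congrFun (Matrix.adjugate_mul G) j) i
    simp only [Matrix.mul_apply, Matrix.smul_apply, Matrix.one_apply, smul_eq_mul, mul_ite, mul_one,
      mul_zero] at h1
    simp only [LinearMap.coe_sum, Finset.sum_apply, LinearMap.smul_apply, smul_eq_mul]
    refine h1.trans ?_
    rcases eq_or_ne i j with rfl | h
    · simp
    · simp [h, Ne.symm h]

theorem exists_smul_mem_of_tmul_eq_zero (hk : IsFrac A k) {m : M} (hm : (1 : k) ⊗ₜ[A] m = 0) :
    ∃ s : A, algebraMap A k s ≠ 0 ∧ s • m ∈ RingHom.ker (algebraMap A k) • (⊤ : Submodule A M) := by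
  set p := RingHom.ker (algebraMap A k)
  letI : Algebra (A ⧸ p) k := (RingHom.kerLift (algebraMap A k)).toAlgebra
  haveI : IsScalarTower A (A ⧸ p) k := IsScalarTower.of_algebraMap_eq fun _ => rfl
  have hinj : Injective (algebraMap (A ⧸ p) k) := RingHom.kerLift_injective (algebraMap A k)
  haveI : IsDomain (A ⧸ p) := hinj.isDomain
  haveI : IsFractionRing (A ⧸ p) k := by
    refine ⟨fun y => isUnit_iff_ne_zero.2 fun h => nonZeroDivisors.coe_ne_zero y
      (hinj (h.trans (map_zero _).symm)), fun z => ?_, fun {x y} h => ⟨1, by rw [hinj h]⟩⟩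
    obtain ⟨r, s, hs, hrs⟩ := hk z
    refine ⟨(Ideal.Quotient.mk p r, ⟨Ideal.Quotient.mk p s, mem_nonZeroDivisors_of_ne_zero fun h => hs ?_⟩), hrs⟩
    exact RingHom.mem_ker.1 (Ideal.Quotient.eq_zero_iff_mem.1 h)
  have h0 : TensorProduct.mk (A ⧸ p) k ((A ⧸ p) ⊗[A] M) 1 ((1 : A ⧸ p) ⊗ₜ[A] m) = 0 := by
    apply (AlgebraTensorModule.cancelBaseChange A (A ⧸ p) k k M).injective
    simpa using hm
  obtain ⟨c, hc⟩ := (IsLocalizedModule.eq_zero_iff (nonZeroDivisors (A ⧸ p))
    (TensorProduct.mk (A ⧸ p) k ((A ⧸ p) ⊗[A] M) 1)).1 h0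
  obtain ⟨s, hs⟩ := Ideal.Quotient.mk_surjective (c : A ⧸ p)
  refine ⟨s, fun h => nonZeroDivisors.coe_ne_zero c (hs ▸ Ideal.Quotient.eq_zero_iff_mem.2 h), ?_⟩
  rw [Submonoid.smul_def, ← hs, TensorProduct.smul_tmul', smul_eq_mul, mul_one] at hc
  have h := TensorProduct.quotTensorEquivQuotSMul_mk_tmul p s m
  rw [hc, map_zero, eq_comm, Submodule.Quotient.mk_eq_zero] at h
  exact h

/-- A map from a finite module into a projective module which is injective in the residue field
has a left inverse up to a denominator. -/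
theorem exists_leftInverse (hk : IsFrac A k) [Module.Finite A M] [Module.Projective A N]
    (u : M →ₗ[A] N) (hu : Injective (u.lTensor k)) :
    ∃ (a : A) (w : N →ₗ[A] M), algebraMap A k a ≠ 0 ∧ w ∘ₗ u = a • LinearMap.id := by
  classical
  obtain ⟨n, y, hy⟩ := Module.Finite.exists_fin (R := A) (M := M)
  obtain ⟨κ, i₀, hi₀, hsp, hli⟩ := exists_linearIndependent' k (fun i => (1 : k) ⊗ₜ[A] y i)
  haveI : Finite κ := Finite.of_injective i₀ hi₀
  haveI : Fintype κ := Fintype.ofFinite κ
  let x : κ → M := y ∘ i₀
  have huk : Injective (u.baseChange k) := hu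
  have hv : LinearIndependent k (fun i => (1 : k) ⊗ₜ[A] u (x i)) := by
    have h1 := hli.map' (u.baseChange k) (LinearMap.ker_eq_bot.2 huk)
    simpa [Function.comp_def, x] using h1
  let e : κ ≃ Fin (Fintype.card κ) := Fintype.equivFin κ
  let σ := ULift.{u} (Fin (Fintype.card κ))
  obtain ⟨d, φ, hd, hφ⟩ := exists_dual k hk (fun i : σ => u (x (e.symm i.down)))
    (hv.comp (fun i : σ => e.symm i.down) (e.symm.injective.comp ULift.down_injective))
  let w₀ : N →ₗ[A] M := ∑ j, (φ j).smulRight (x (e.symm j.down))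
  let f : Module.End A M := w₀ ∘ₗ u
  let E : Module.End A M := f - d • LinearMap.id
  have hEx : ∀ i, E (x i) = 0 := fun i => by
    have h1 := hφ ⟨e i⟩
    simp only [Equiv.symm_apply_apply] at h1
    simp only [E, f, w₀, LinearMap.sub_apply, LinearMap.comp_apply, LinearMap.coe_sum, Finset.sum_apply,
      LinearMap.smulRight_apply, LinearMap.smul_apply, LinearMap.id_apply, h1, ite_smul, zero_smul]
    rw [Finset.sum_eq_single (⟨e i⟩ : σ) (fun b _ hb => if_neg fun h => hb h.symm)
      (fun h => absurd (Finset.mem_univ _) h), if_pos rfl, Equiv.symm_apply_apply, sub_self]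
  have hEk : ∀ m, (1 : k) ⊗ₜ[A] E m = 0 := by
    have h1 : ∀ z : k ⊗[A] M, E.baseChange k z = 0 := by
      have htop : Submodule.span k (Set.range fun i => (1 : k) ⊗ₜ[A] y i) = ⊤ := by
        rw [← Submodule.baseChange_top (R := A) (M := M) k, ← hy, Submodule.baseChange_span, ← Set.range_comp]
        rfl
      intro z
      have hz : z ∈ Submodule.span k (Set.range ((fun i => (1 : k) ⊗ₜ[A] y i) ∘ i₀)) := by
        rw [hsp, htop]
        trivial
      refine Submodule.span_induction (p := fun z _ => E.baseChange k z = 0) ?_ (map_zero _)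
        (fun a b _ _ ha hb => by rw [map_add, ha, hb, add_zero])
        (fun c a _ ha => by rw [map_smul, ha, smul_zero]) hz
      rintro _ ⟨i, rfl⟩
      rw [Function.comp_apply, LinearMap.baseChange_tmul, show E (y (i₀ i)) = 0 from hEx i,
        TensorProduct.tmul_zero]
    exact fun m => h1 (1 ⊗ₜ m)
  choose c hc hcE using fun i => exists_smul_mem_of_tmul_eq_zero k hk (hEk (y i))
  set p := RingHom.ker (algebraMap A k)
  let C : A := ∏ i, c i
  have hC : algebraMap A k C ≠ 0 := by
    rw [map_prod]
    exact Finset.prod_ne_zero_iff.2 fun i _ => hc i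
  have hrange : LinearMap.range (C • E) ≤ p • ⊤ := by
    rw [LinearMap.range_eq_map, ← hy, Submodule.map_span, Submodule.span_le]
    rintro _ ⟨_, ⟨i, rfl⟩, rfl⟩
    rw [hy]
    simp only [LinearMap.smul_apply, SetLike.mem_coe, C]
    rw [← Finset.prod_erase_mul Finset.univ c (Finset.mem_univ i), mul_smul]
    exact Submodule.smul_mem _ _ (hcE i)
  obtain ⟨P, hP, -, hPc, hPE⟩ :=
    LinearMap.exists_monic_and_natDegree_eq_and_coeff_mem_pow_and_aeval_eq_zero A (C • E) p hrange
  let Q : Polynomial A := P.comp (Polynomial.X - Polynomial.C (C * d))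
  have hQf : Polynomial.aeval (C • f : Module.End A M) Q = 0 := by
    rw [Polynomial.aeval_comp]
    convert hPE using 3
    simp only [map_sub, Polynomial.aeval_X, Polynomial.aeval_C, E, smul_sub, smul_smul,
      Algebra.algebraMap_eq_smul_one]
    rfl
  have hmap : P.map (algebraMap A k) = Polynomial.X ^ P.natDegree := by
    ext j
    rw [Polynomial.coeff_map, Polynomial.coeff_X_pow]
    rcases lt_trichotomy j P.natDegree with h | rfl | h
    · rw [if_neg h.ne, RingHom.mem_ker.1 (Ideal.pow_le_self (by omega) (hPc j))]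
    · rw [hP.coeff_natDegree, map_one, if_pos rfl]
    · rw [Polynomial.coeff_eq_zero_of_natDegree_lt h, map_zero, if_neg h.ne']
  refine ⟨Q.coeff 0, -((Polynomial.aeval (C • f : Module.End A M) Q.divX) ∘ₗ (C • w₀)), ?_, ?_⟩
  · rw [← Polynomial.coeff_map, Polynomial.map_comp, hmap, Polynomial.map_sub, Polynomial.map_X,
      Polynomial.map_C, Polynomial.pow_comp, Polynomial.X_comp, Polynomial.coeff_zero_eq_eval_zero,
      Polynomial.eval_pow, Polynomial.eval_sub, Polynomial.eval_X, Polynomial.eval_C, zero_sub]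
    exact pow_ne_zero _ (neg_ne_zero.2 (by rw [map_mul]; exact mul_ne_zero hC hd))
  · have h1 := congrArg (Polynomial.aeval (C • f : Module.End A M)) (Polynomial.divX_mul_X_add Q)
    rw [hQf, map_add, map_mul, Polynomial.aeval_X, Polynomial.aeval_C] at h1
    ext m
    have h2 := LinearMap.congr_fun h1 m
    simp only [LinearMap.add_apply, Module.End.mul_apply, LinearMap.zero_apply,
      Module.algebraMap_end_apply] at h2
    simp only [LinearMap.neg_apply, LinearMap.comp_apply, LinearMap.smul_apply, LinearMap.id_apply]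
    exact neg_eq_of_add_eq_zero_right h2

end GrothLib.SplitInj
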