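import Groth.Agent.Lib.SplitInj.Local
import Mathlib.RingTheory.Smooth.Basic
import Mathlib.RingTheory.Etale.Kaehler
import Mathlib.Algebra.Module.LocalizedModule.Exact

/-!
# The Jacobian criterion for quotients of formally smooth algebras, localized
-/

universe u

open TensorProduct Function

namespace GrothLib.SplitInj

variable {A B C : Type u} [CommRing A] [CommRing B] [CommRing C] [Algebra A B] [Algebra B C]
  [Algebra A C] [IsScalarTower A B C]

/-- The presentation of `C` as a quotient of `B`. -/
noncomputable def quotExt (h : Surjective (algebraMap B C)) : Algebra.Extension.{u} A C :=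
  ⟨B, surjInv h, surjInv_eq h⟩

variable {h : Surjective (algebraMap B C)}

theorem finite_cotangent [Module.Finite B (RingHom.ker (algebraMap B C)).Cotangent] :
    Module.Finite C (quotExt (A := A) h).Cotangent := by
  let e : (quotExt (A := A) h).ker.Cotangent ≃ₗ[(quotExt (A := A) h).Ring] (quotExt (A := A) h).Cotangent :=
    { __ := AddEquiv.refl _, map_smul' r m := by ext1; simp; rfl }
  haveI : Module.Finite (quotExt (A := A) h).Ring (quotExt (A := A) h).ker.Cotangent :=
    ‹Module.Finite B (RingHom.ker (algebraMap B C)).Cotangent›
  haveI : Module.Finite (quotExt (A := A) h).Ring (quotExt (A := A) h).Cotangent := Module.Finite.equiv e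
  exact Module.Finite.of_restrictScalars_finite (quotExt (A := A) h).Ring C _

theorem projective_cotangentSpace [Algebra.FormallySmooth A B] :
    Module.Projective C (quotExt (A := A) h).CotangentSpace := by
  haveI : Module.Projective (quotExt (A := A) h).Ring Ω[(quotExt (A := A) h).Ring⁄A] :=
    ‹Algebra.FormallySmooth A B›.projective_kaehlerDifferential
  infer_instance

theorem injective_residueField_iff (p : Ideal C) [p.IsPrime] :
    Injective ((KaehlerDifferential.kerCotangentToTensor A B C).lTensor p.ResidueField) ↔
      Injective ((quotExt (A := A) h).cotangentComplex.lTensor p.ResidueField) := by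
  set P := quotExt (A := A) h
  let κ := p.ResidueField
  have hc : ∀ (X : Type u) [AddCommGroup X] [Module B X] [Module C X] [IsScalarTower B C X],
      TensorProduct.CompatibleSMul B C κ X := by
    intro X _ _ _ _
    refine ⟨fun c a x => ?_⟩
    obtain ⟨b, rfl⟩ := h c
    rw [algebraMap_smul, algebraMap_smul, TensorProduct.smul_tmul]
  letI : Module B P.Cotangent := inferInstanceAs (Module P.Ring P.Cotangent)
  haveI : IsScalarTower B C P.Cotangent := inferInstanceAs (IsScalarTower P.Ring C P.Cotangent)
  haveI := hc P.Cotangent
  haveI := hc (C ⊗[B] Ω[B⁄A])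
  let f : P.Cotangent ≃ₗ[B] (RingHom.ker (algebraMap B C)).Cotangent :=
    { __ := AddEquiv.refl _, map_smul' := fun r x => Algebra.Extension.Cotangent.val_smul' (P := P) r x }
  let e₁ := (TensorProduct.equivOfCompatibleSMul B C B κ P.Cotangent).trans
    (LinearEquiv.lTensor κ f)
  let e₂ := TensorProduct.equivOfCompatibleSMul B C B κ (C ⊗[B] Ω[B⁄A])
  have key : ∀ z, (KaehlerDifferential.kerCotangentToTensor A B C).lTensor κ (e₁ z) =
      e₂ (P.cotangentComplex.lTensor κ z) := by
    intro z
    induction z using TensorProduct.induction_on with
    | zero => erw [map_zero]; try rfl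
    | add a b ha hb => erw [map_add, map_add, map_add, map_add, ha, hb]
    | tmul c x => rfl
  constructor
  · intro hi x y hxy
    exact e₁.injective (hi (by rw [key, key, hxy]))
  · intro hi x y hxy
    obtain ⟨x, rfl⟩ := e₁.surjective x
    obtain ⟨y, rfl⟩ := e₁.surjective y
    rw [key, key] at hxy
    rw [hi (e₂.injective hxy)]

theorem formallySmooth_localization_iff [Algebra.FormallySmooth A B] (S : Submonoid C) :
    Algebra.FormallySmooth A (Localization S) ↔
      ∃ w : LocalizedModule S (quotExt (A := A) h).CotangentSpace →ₗ[C]
          LocalizedModule S (quotExt (A := A) h).Cotangent,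
        w ∘ₗ (LocalizedModule.map S (quotExt (A := A) h).cotangentComplex).restrictScalars C =
          LinearMap.id := by
  set P := quotExt (A := A) h
  haveI : Algebra.FormallySmooth A P.Ring := ‹Algebra.FormallySmooth A B›
  haveI : Module.Projective C P.CotangentSpace := projective_cotangentSpace
  haveI : Module.Projective (Localization S) (LocalizedModule S P.CotangentSpace) :=
    Module.Projective.of_equiv (LocalizedModule.equivTensorProduct S P.CotangentSpace).symm
  let u' := LocalizedModule.map S P.cotangentComplex
  let g' := LocalizedModule.map S P.toKaehler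
  have hex : Exact u' g' := LocalizedModule.map_exact S _ _ P.exact_cotangentComplex_toKaehler
  have hg : Surjective g' := LocalizedModule.map_surjective S _ P.toKaehler_surjective
  have hH : Subsingleton (Algebra.H1Cotangent A (Localization S)) ↔ Injective u' := by
    rw [← (IsLocalizedModule.iso S (Algebra.H1Cotangent.map A A C (Localization S))).subsingleton_congr]
    let e : LocalizedModule S P.H1Cotangent ≃ₗ[Localization S] LocalizedModule S (Algebra.H1Cotangent A C) :=
      IsLocalizedModule.mapEquiv S (LocalizedModule.mkLinearMap S P.H1Cotangent)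
        (LocalizedModule.mkLinearMap S (Algebra.H1Cotangent A C)) (Localization S)
        P.equivH1CotangentOfFormallySmooth
    rw [← e.subsingleton_congr]
    have hex' : Exact (LocalizedModule.map S P.h1Cotangentι) u' :=
      LocalizedModule.map_exact S _ _ (fun x => ⟨fun hx => ⟨⟨x, hx⟩, rfl⟩, by
        rintro ⟨y, rfl⟩
        exact y.2⟩)
    have hι : Injective (LocalizedModule.map S P.h1Cotangentι) :=
      LocalizedModule.map_injective S _ P.h1Cotangentι_injective
    rw [injective_iff_map_eq_zero]
    refine ⟨fun _ x hx => ?_, fun hu => ⟨fun x y => hι ?_⟩⟩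
    · obtain ⟨y, rfl⟩ := (hex' x).1 hx
      rw [Subsingleton.elim y 0, map_zero]
    · rw [hu _ ((hex' _).2 ⟨x, rfl⟩), hu _ ((hex' _).2 ⟨y, rfl⟩)]
  have hΩ : Module.Projective (Localization S) Ω[Localization S⁄A] ↔
      ∃ l, g' ∘ₗ l = LinearMap.id := by
    let e := (IsLocalizedModule.iso S (KaehlerDifferential.map A A C (Localization S))).extendScalarsOfIsLocalization
      S (Localization S)
    rw [← Module.Projective.iff_split_of_projective g' hg]
    exact ⟨fun _ => Module.Projective.of_equiv e.symm, fun _ => Module.Projective.of_equiv e⟩
  rw [Algebra.formallySmooth_iff, hH, hΩ, and_comm]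
  refine ((Function.Exact.split_tfae' (R := Localization S) (M := LocalizedModule S P.Cotangent)
    (N := LocalizedModule S P.CotangentSpace) (P := LocalizedModule S Ω[C⁄A]) (f := u') (g := g') hex).out 0 1).trans ?_
  refine ⟨fun ⟨_, l, hl⟩ => ⟨l.restrictScalars C, ?_⟩, fun ⟨w, hw⟩ => ⟨hg, ?_⟩⟩
  · rw [← LinearMap.restrictScalars_comp, hl]
    rfl
  · refine ⟨w.extendScalarsOfIsLocalization S (Localization S), LinearMap.ext fun x => ?_⟩
    exact LinearMap.congr_fun hw x

theorem tfae_formallySmooth_localization [Algebra.FormallySmooth A B]
    [Module.Finite B (RingHom.ker (algebraMap B C)).Cotangent]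
    (h : Surjective (algebraMap B C)) (p : Ideal C) [p.IsPrime] :
    [Algebra.FormallySmooth A (Localization.AtPrime p),
     Injective ((KaehlerDifferential.kerCotangentToTensor A B C).lTensor p.ResidueField),
     ∃ f : C, f ∉ p ∧ Algebra.FormallySmooth A (Localization.Away f)].TFAE := by
  haveI : Module.Finite C (quotExt (A := A) h).Cotangent := finite_cotangent
  haveI : Module.Projective C (quotExt (A := A) h).CotangentSpace := projective_cotangentSpace
  have H := tfae_leftInverse (quotExt (A := A) h).cotangentComplex p
  rw [show Algebra.FormallySmooth A (Localization.AtPrime p) ↔ _ from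
    formallySmooth_localization_iff (h := h) p.primeCompl, injective_residueField_iff (h := h) p]
  simp_rw [show ∀ f : C, Algebra.FormallySmooth A (Localization.Away f) ↔ _ from
    fun f => formallySmooth_localization_iff (h := h) (Submonoid.powers f)]
  exact H

theorem isOpen_setOf_formallySmooth [Algebra.FormallySmooth A B]
    [Module.Finite B (RingHom.ker (algebraMap B C)).Cotangent] (h : Surjective (algebraMap B C)) :
    IsOpen {p : PrimeSpectrum C | Algebra.FormallySmooth A (Localization.AtPrime p.asIdeal)} := by
  haveI : Module.Finite C (quotExt (A := A) h).Cotangent := finite_cotangent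
  haveI : Module.Projective C (quotExt (A := A) h).CotangentSpace := projective_cotangentSpace
  convert isOpen_setOf_leftInverse (quotExt (A := A) h).cotangentComplex using 1
  ext p
  exact formallySmooth_localization_iff (h := h) p.asIdeal.primeCompl

theorem formallySmooth_of_forall_maximal [Algebra.FormallySmooth A B]
    [Module.Finite B (RingHom.ker (algebraMap B C)).Cotangent] (h : Surjective (algebraMap B C))
    (H : ∀ (m : Ideal C) [m.IsMaximal], Algebra.FormallySmooth A (Localization.AtPrime m)) :
    Algebra.FormallySmooth A C := by
  haveI : Module.Finite C (quotExt (A := A) h).Cotangent := finite_cotangent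
  haveI : Module.Projective C (quotExt (A := A) h).CotangentSpace := projective_cotangentSpace
  haveI : Algebra.FormallySmooth A (quotExt (A := A) h).Ring := ‹Algebra.FormallySmooth A B›
  obtain ⟨w, hw⟩ := (exists_leftInverse_iff_denIdeal (quotExt (A := A) h).cotangentComplex).2
    (denIdeal_eq_top_of_forall _ fun m _ => injective_lTensor_of_localized _ _ m le_rfl
      ((formallySmooth_localization_iff (h := h) m.primeCompl).1 (H m)))
  exact (quotExt (A := A) h).formallySmooth_iff_split_injection.2 ⟨w, hw⟩

end GrothLib.SplitInj
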