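import Groth.Agent.Lib.SplitInj.Core
import Mathlib.RingTheory.LocalRing.ResidueField.Ideal
import Mathlib.RingTheory.Localization.Module
import Mathlib.RingTheory.Flat.FaithfullyFlat.Basic
import Mathlib.RingTheory.Spectrum.Prime.Topology
import Mathlib.RingTheory.LocalRing.Module

/-!
# Left invertibility of maps into projective modules: local nature
-/

universe u

open TensorProduct Function IsLocalRing

namespace GrothLib.SplitInj

variable {A : Type u} [CommRing A] {M N : Type u} [AddCommGroup M] [Module A M]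
  [AddCommGroup N] [Module A N] (u : M →ₗ[A] N)

theorem isFrac_residueField (p : Ideal A) [p.IsPrime] : IsFrac A p.ResidueField := by
  intro z
  obtain ⟨r, s, hs, hrs⟩ := IsFractionRing.div_surjective (A ⧸ p) z
  obtain ⟨r, rfl⟩ := Ideal.Quotient.mk_surjective r
  obtain ⟨s, rfl⟩ := Ideal.Quotient.mk_surjective s
  have hs' : algebraMap A p.ResidueField s ≠ 0 := fun h => nonZeroDivisors.ne_zero hs
    (Ideal.Quotient.eq_zero_iff_mem.2 (Ideal.algebraMap_residueField_eq_zero.1 h))
  refine ⟨r, s, hs', ?_⟩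
  rw [← hrs]
  exact div_mul_cancel₀ _ hs'

theorem isFrac_localRing [IsLocalRing A] : IsFrac A (ResidueField A) := fun z => by
  obtain ⟨r, rfl⟩ := residue_surjective z
  exact ⟨r, 1, by simp, by simp [ResidueField.algebraMap_eq]⟩

theorem algebraMap_localRing_ne_zero [IsLocalRing A] {a : A} (h : algebraMap A (ResidueField A) a ≠ 0) :
    IsUnit a := residue_ne_zero_iff_isUnit a |>.1 h

/-- The ideal of denominators of left inverses. -/
def denIdeal : Ideal A where
  carrier := {a | ∃ w : N →ₗ[A] M, w ∘ₗ u = a • LinearMap.id}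
  add_mem' := by
    rintro a b ⟨w, hw⟩ ⟨w', hw'⟩
    exact ⟨w + w', by rw [LinearMap.add_comp, hw, hw', add_smul]⟩
  zero_mem' := ⟨0, by rw [LinearMap.zero_comp, zero_smul]⟩
  smul_mem' := by
    rintro c a ⟨w, hw⟩
    exact ⟨c • w, by rw [LinearMap.smul_comp, hw, smul_smul, smul_eq_mul]⟩

theorem exists_leftInverse_iff_denIdeal :
    (∃ w : N →ₗ[A] M, w ∘ₗ u = LinearMap.id) ↔ denIdeal u = ⊤ := by
  rw [Ideal.eq_top_iff_one]
  change _ ↔ ∃ w : N →ₗ[A] M, w ∘ₗ u = (1 : A) • LinearMap.id
  rw [one_smul]

theorem injective_lTensor_of_hom {k : Type u} [CommRing k] [Algebra A k] (r : N →ₗ[A] k ⊗[A] M)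
    (hr : ∀ m, r (u m) = 1 ⊗ₜ m) : Injective (u.lTensor k) := by
  refine LeftInverse.injective (g := r.liftBaseChange k) fun z => ?_
  induction z using TensorProduct.induction_on with
  | zero => simp
  | add a b ha hb => rw [map_add, map_add, ha, hb]
  | tmul c m =>
    rw [LinearMap.lTensor_tmul, LinearMap.liftBaseChange_tmul, hr, TensorProduct.smul_tmul', smul_eq_mul,
      mul_one]

theorem denIdeal_eq_top_of_forall [Module.Finite A M] [Module.Projective A N]
    (h : ∀ (m : Ideal A) [m.IsMaximal], Injective (u.lTensor m.ResidueField)) : denIdeal u = ⊤ := by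
  by_contra hne
  obtain ⟨m, hm, hle⟩ := Ideal.exists_le_maximal _ hne
  obtain ⟨a, w, ha, hw⟩ := exists_leftInverse m.ResidueField (isFrac_residueField m) u (h m)
  exact ha (Ideal.algebraMap_residueField_eq_zero.2 (hle ⟨w, hw⟩))

section localized

variable (S : Submonoid A)

theorem comp_map_eq_id_iff (w : LocalizedModule S N →ₗ[A] LocalizedModule S M) :
    w ∘ₗ (LocalizedModule.map S u).restrictScalars A = LinearMap.id ↔
      ∀ m, w (LocalizedModule.mk (u m) 1) = LocalizedModule.mk m 1 := by
  refine ⟨fun h m => ?_, fun h => ?_⟩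
  · have h1 := LinearMap.congr_fun h (LocalizedModule.mk m 1)
    rwa [LinearMap.comp_apply, LinearMap.restrictScalars_apply, LocalizedModule.map_mk,
      LinearMap.id_apply] at h1
  · refine IsLocalizedModule.linearMap_ext S (LocalizedModule.mkLinearMap S M)
      (LocalizedModule.mkLinearMap S M) (LinearMap.ext fun m => ?_)
    simpa [LocalizedModule.map_mk] using h m

theorem exists_localized_leftInverse_of_mem {a : A} (ha : a ∈ denIdeal u) (haS : a ∈ S) :
    ∃ w : LocalizedModule S N →ₗ[A] LocalizedModule S M,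
      w ∘ₗ (LocalizedModule.map S u).restrictScalars A = LinearMap.id := by
  obtain ⟨w, hw⟩ := ha
  obtain ⟨v, hv⟩ := IsLocalizedModule.map_units (LocalizedModule.mkLinearMap S M) ⟨a, haS⟩
  refine ⟨(↑v⁻¹ : Module.End A (LocalizedModule S M)) ∘ₗ (LocalizedModule.map S w).restrictScalars A,
    (comp_map_eq_id_iff u S _).2 fun m => ?_⟩
  have h1 : w (u m) = a • m := by simpa using LinearMap.congr_fun hw m
  rw [LinearMap.comp_apply, LinearMap.restrictScalars_apply, LocalizedModule.map_mk, h1,
    ← LocalizedModule.smul'_mk, show a • LocalizedModule.mk m 1 =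
      (↑v : Module.End A (LocalizedModule S M)) (LocalizedModule.mk m 1) by rw [hv]; rfl,
    ← Module.End.mul_apply, Units.inv_mul, Module.End.one_apply]

theorem injective_lTensor_of_localized (p : Ideal A) [p.IsPrime] (hS : S ≤ p.primeCompl)
    (h : ∃ w : LocalizedModule S N →ₗ[A] LocalizedModule S M,
      w ∘ₗ (LocalizedModule.map S u).restrictScalars A = LinearMap.id) :
    Injective (u.lTensor p.ResidueField) := by
  obtain ⟨w, hw⟩ := h
  rw [comp_map_eq_id_iff] at hw
  have hunit : ∀ s : S, IsUnit (algebraMap A (Module.End A (p.ResidueField ⊗[A] M)) s) := by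
    intro s
    have h0 : algebraMap A p.ResidueField s ≠ 0 := fun h =>
      hS s.2 (Ideal.algebraMap_residueField_eq_zero.1 h)
    have h1 := (isUnit_iff_ne_zero.2 h0).map (algebraMap p.ResidueField (Module.End p.ResidueField
      (p.ResidueField ⊗[A] M)))
    rw [Module.End.isUnit_iff] at h1 ⊢
    convert h1 using 1
    ext z
    simp [algebraMap_smul]
  refine injective_lTensor_of_hom u ((LocalizedModule.lift S (TensorProduct.mk A p.ResidueField M 1) hunit) ∘ₗ w ∘ₗ
    LocalizedModule.mkLinearMap S N) fun m => ?_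
  rw [LinearMap.comp_apply, LinearMap.comp_apply, LocalizedModule.mkLinearMap_apply, hw,
    ← LocalizedModule.mkLinearMap_apply, ← LinearMap.comp_apply, LocalizedModule.lift_comp]
  rfl

end localized

theorem injective_lTensor_of_mem (p : Ideal A) [p.IsPrime] {a : A} (ha : a ∈ denIdeal u) (hap : a ∉ p) :
    Injective (u.lTensor p.ResidueField) :=
  injective_lTensor_of_localized u p.primeCompl p le_rfl
    (exists_localized_leftInverse_of_mem u p.primeCompl ha hap)

theorem denIdeal_mem_iff [Module.Finite A M] [Module.Projective A N] (p : Ideal A) [p.IsPrime] :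
    Injective (u.lTensor p.ResidueField) ↔ ∃ a ∈ denIdeal u, a ∉ p := by
  refine ⟨fun h => ?_, fun ⟨a, ha, hap⟩ => injective_lTensor_of_mem u p ha hap⟩
  obtain ⟨a, w, ha, hw⟩ := exists_leftInverse p.ResidueField (isFrac_residueField p) u h
  exact ⟨a, ⟨w, hw⟩, fun h => ha (Ideal.algebraMap_residueField_eq_zero.2 h)⟩

theorem tfae_leftInverse [Module.Finite A M] [Module.Projective A N] (p : Ideal A) [p.IsPrime] :
    [∃ w : LocalizedModule p.primeCompl N →ₗ[A] LocalizedModule p.primeCompl M,
        w ∘ₗ (LocalizedModule.map p.primeCompl u).restrictScalars A = LinearMap.id,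
     Injective (u.lTensor p.ResidueField),
     ∃ f : A, f ∉ p ∧
        ∃ w : LocalizedModule (Submonoid.powers f) N →ₗ[A] LocalizedModule (Submonoid.powers f) M,
          w ∘ₗ (LocalizedModule.map (Submonoid.powers f) u).restrictScalars A = LinearMap.id].TFAE := by
  tfae_have 1 → 2 := injective_lTensor_of_localized u _ p le_rfl
  tfae_have 2 → 3 := fun h => by
    obtain ⟨a, ha, hap⟩ := (denIdeal_mem_iff u p).1 h
    exact ⟨a, hap, exists_localized_leftInverse_of_mem u _ ha (Submonoid.mem_powers a)⟩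
  tfae_have 3 → 1 := fun ⟨f, hf, h⟩ => by
    have h2 := injective_lTensor_of_localized u _ p (Submonoid.powers_le.2 hf) h
    obtain ⟨a, ha, hap⟩ := (denIdeal_mem_iff u p).1 h2
    exact exists_localized_leftInverse_of_mem u _ ha hap
  tfae_finish

theorem isOpen_setOf_leftInverse [Module.Finite A M] [Module.Projective A N] :
    IsOpen {p : PrimeSpectrum A |
      ∃ w : LocalizedModule p.asIdeal.primeCompl N →ₗ[A] LocalizedModule p.asIdeal.primeCompl M,
        w ∘ₗ (LocalizedModule.map p.asIdeal.primeCompl u).restrictScalars A = LinearMap.id} := by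
  convert (PrimeSpectrum.isClosed_zeroLocus (denIdeal u : Set A)).isOpen_compl using 1
  ext p
  rw [Set.mem_ofPred_eq, Set.mem_compl_iff, PrimeSpectrum.mem_zeroLocus, Set.not_subset]
  refine ⟨fun h => (denIdeal_mem_iff u p.asIdeal).1
    (injective_lTensor_of_localized u _ p.asIdeal le_rfl h), fun ⟨a, ha, hap⟩ => ?_⟩
  exact exists_localized_leftInverse_of_mem u _ ha hap

theorem exists_leftInverse_of_mod [Module.Finite A M] [Module.Projective A N] (J : Ideal A)
    (hJ : J ≤ (⊥ : Ideal A).jacobson)
    (v : N →ₗ[A] M ⧸ (J • ⊤ : Submodule A M)) (hv : v ∘ₗ u = (J • ⊤ : Submodule A M).mkQ) :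
    ∃ w : N →ₗ[A] M, w ∘ₗ u = LinearMap.id := by
  refine (exists_leftInverse_iff_denIdeal u).2 (denIdeal_eq_top_of_forall u fun m hm => ?_)
  have hle : J ≤ m := hJ.trans (sInf_le ⟨bot_le, hm⟩)
  refine injective_lTensor_of_hom u (((J • ⊤ : Submodule A M).liftQ
    (TensorProduct.mk A m.ResidueField M 1) ?_) ∘ₗ v) fun x => ?_
  · rw [Submodule.smul_le]
    intro a ha x _
    rw [LinearMap.mem_ker, map_smul, TensorProduct.mk_apply, TensorProduct.smul_tmul', Algebra.smul_def,
      Ideal.algebraMap_residueField_eq_zero.2 (hle ha), zero_mul, TensorProduct.zero_tmul]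
  · rw [LinearMap.comp_apply, ← LinearMap.comp_apply v, hv]
    rfl

theorem exists_leftInverse_of_nilpotent [Module.Projective A N] (J : Ideal A) (hJ : IsNilpotent J)
    (v : N →ₗ[A] M ⧸ (J • ⊤ : Submodule A M)) (hv : v ∘ₗ u = (J • ⊤ : Submodule A M).mkQ) :
    ∃ w : N →ₗ[A] M, w ∘ₗ u = LinearMap.id := by
  obtain ⟨w₀, hw₀⟩ := Module.projective_lifting_property (J • ⊤ : Submodule A M).mkQ v
    (Submodule.mkQ_surjective _)
  let e : Module.End A M := 1 - w₀ ∘ₗ u
  have he : ∀ n : ℕ, ∀ x, (e ^ n) x ∈ J ^ n • (⊤ : Submodule A M) := by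
    intro n
    induction n with
    | zero => simp
    | succ n ih =>
      intro x
      have h1 : e x ∈ J • (⊤ : Submodule A M) := by
        rw [← Submodule.Quotient.mk_eq_zero]
        have h2 := LinearMap.congr_fun hv x
        rw [LinearMap.comp_apply, ← hw₀, LinearMap.comp_apply, Submodule.mkQ_apply, Submodule.mkQ_apply] at h2
        simp [e, Submodule.Quotient.mk_sub, h2]
      rw [pow_succ (M := Module.End A M), Module.End.mul_apply]
      have h3 : (e ^ n) (e x) ∈ Submodule.map (e ^ n) (J • ⊤) := Submodule.mem_map_of_mem h1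
      rw [Submodule.map_smul''] at h3
      rw [pow_succ', Submodule.mul_smul]
      refine Submodule.smul_mono le_rfl ?_ h3
      rintro _ ⟨y, -, rfl⟩
      exact ih y
  obtain ⟨n, hn⟩ := hJ
  have hen : IsNilpotent e := ⟨n, LinearMap.ext fun x => by
    have h1 := he n x
    rw [hn, Ideal.zero_eq_bot, Submodule.bot_smul, Submodule.mem_bot] at h1
    exact h1⟩
  obtain ⟨g, hg⟩ := hen.isUnit_one_sub
  refine ⟨(↑g⁻¹ : Module.End A M) ∘ₗ w₀, ?_⟩
  rw [LinearMap.comp_assoc, show w₀ ∘ₗ u = (↑g : Module.End A M) by rw [hg]; simp [e]]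
  exact g.inv_mul

theorem injective_lTensor_of_baseChange {A' : Type u} [CommRing A'] [Algebra A A'] (q : Ideal A') [q.IsPrime]
    (p : Ideal A) [p.IsPrime] (hpq : p = q.comap (algebraMap A A'))
    (h : ∃ w : A' ⊗[A] N →ₗ[A'] A' ⊗[A] M, w ∘ₗ u.baseChange A' = LinearMap.id) :
    Injective (u.lTensor p.ResidueField) := by
  obtain ⟨w, hw⟩ := h
  let B := q.ResidueField
  letI : Algebra p.ResidueField B :=
    (Ideal.ResidueField.map p q (algebraMap A A') hpq).toAlgebra
  haveI : IsScalarTower A p.ResidueField B := IsScalarTower.of_algebraMap_eq fun a => by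
    rw [RingHom.algebraMap_toAlgebra, Ideal.ResidueField.map_algebraMap,
      ← IsScalarTower.algebraMap_apply A A' q.ResidueField]
  let j : p.ResidueField →ₗ[A] B := (IsScalarTower.toAlgHom A p.ResidueField B).toLinearMap
  have hB : Injective (u.lTensor B) := by
    refine injective_lTensor_of_hom u (((IsScalarTower.toAlgHom A A' B).toLinearMap.rTensor M) ∘ₗ
      (w.restrictScalars A) ∘ₗ TensorProduct.mk A A' N 1) fun m => ?_
    have h1 := LinearMap.congr_fun hw ((1 : A') ⊗ₜ m)
    rw [LinearMap.comp_apply, LinearMap.baseChange_tmul, LinearMap.id_apply] at h1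
    rw [LinearMap.comp_apply, LinearMap.comp_apply, TensorProduct.mk_apply, LinearMap.restrictScalars_apply, h1]
    simp
  -- `κ ⊗ M → B ⊗ M` is injective
  have hinj : Injective (j.rTensor M) := by
    let e := AlgebraTensorModule.cancelBaseChange A p.ResidueField B B M
    have key : ∀ z, j.rTensor M z = e ((1 : B) ⊗ₜ[p.ResidueField] z) := fun z => by
      induction z using TensorProduct.induction_on with
      | zero => simp
      | add a b ha hb => rw [map_add, TensorProduct.tmul_add, map_add, ha, hb]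
      | tmul c m => simp [e, j, Algebra.smul_def]
    intro x y hxy
    rw [key, key] at hxy
    have h0 := e.injective hxy
    rw [← sub_eq_zero, ← TensorProduct.tmul_sub, Module.FaithfullyFlat.one_tmul_eq_zero_iff] at h0
    exact sub_eq_zero.1 h0
  intro x y hxy
  apply hinj
  apply hB
  rw [← LinearMap.comp_apply, LinearMap.lTensor_comp_rTensor, ← LinearMap.rTensor_comp_lTensor,
    LinearMap.comp_apply, hxy, ← LinearMap.comp_apply, LinearMap.rTensor_comp_lTensor,
    ← LinearMap.lTensor_comp_rTensor, LinearMap.comp_apply]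

theorem linearIndependent_and_leftInverse [IsLocalRing A] [Module.Projective A N] {σ : Type*} [Fintype σ]
    (x : σ → M) (hx : Submodule.span A (Set.range x) = ⊤)
    (hli : LinearIndependent (ResidueField A) (fun i => (1 : ResidueField A) ⊗ₜ[A] u (x i))) :
    LinearIndependent A x ∧ ∃ w : N →ₗ[A] M, w ∘ₗ u = LinearMap.id := by
  classical
  let e := Fintype.equivFin σ
  let τ := ULift.{u} (Fin (Fintype.card σ))
  obtain ⟨d, φ, hd, hφ⟩ := exists_dual (ResidueField A) isFrac_localRing
    (fun i : τ => u (x (e.symm i.down)))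
    (hli.comp (fun i : τ => e.symm i.down) (e.symm.injective.comp ULift.down_injective))
  obtain ⟨v, rfl⟩ := algebraMap_localRing_ne_zero hd
  let ψ : σ → N →ₗ[A] A := fun j => (↑v⁻¹ : A) • φ ⟨e j⟩
  have hψ : ∀ i j, ψ j (u (x i)) = if i = j then 1 else 0 := fun i j => by
    have h1 := hφ ⟨e i⟩ ⟨e j⟩
    simp only [Equiv.symm_apply_apply] at h1
    rw [LinearMap.smul_apply, h1, smul_eq_mul]
    rcases eq_or_ne i j with rfl | h
    · simp
    · rw [if_neg h, if_neg fun he => h (e.injective (congrArg ULift.down he)), mul_zero]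
  refine ⟨Fintype.linearIndependent_iff.2 fun c hc j => ?_, ∑ j, (ψ j).smulRight (x j), ?_⟩
  · have h1 := congrArg (ψ j ∘ₗ u) hc
    simpa [map_sum, hψ] using h1
  · refine LinearMap.ext_on_range hx fun i => ?_
    simp [hψ]

end GrothLib.SplitInj
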