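import Groth.Agent.Lib.SplitInj.Jacobian
import Groth.Agent.Lib.Hensel.SmoothCriterion
import Mathlib.RingTheory.LocalRing.ResidueField.Ideal
import Mathlib.LinearAlgebra.Matrix.NonsingularInverse
import Mathlib.RingTheory.Localization.AtPrime.Basic

/-!
# Zariski's Jacobian criterion with derivations

`GrothLib.SplitInj.formallySmooth_localization_iff_derivations`: for `B` formally smooth and
noetherian over `R`, `(B/J)_q` is formally smooth iff `J` is generated at `q` by `f₁, …, f_m` with
`det (D_j f_i) ∉ q` for some derivations `D_j` of `B`.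
-/

set_option autoImplicit false

universe u

open TensorProduct

namespace GrothLib.SplitInj

variable {R B : Type u} [CommRing R] [CommRing B] [Algebra R B]

/-- Vectors independent in `κ ⊗ P` are separated by the functionals of a projective module. -/
theorem sum_smul_tmul_eq_zero {P κ : Type u} [AddCommGroup P] [Module B P] [Module.Projective B P]
    [CommRing κ] [Algebra B κ] {m : Type*} [Fintype m] (v : m → P) (c : m → κ)
    (h : ∀ L : P →ₗ[B] B, ∑ i, c i * algebraMap B κ (L (v i)) = 0) :
    ∑ i, c i ⊗ₜ[B] v i = 0 := by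
  classical
  obtain ⟨s, hs⟩ := (Module.projective_def (R := B) (P := P)).1 inferInstance
  have hinj : Function.Injective (s.lTensor κ) := by
    refine Function.LeftInverse.injective (g := (Finsupp.linearCombination B id).lTensor κ) fun z => ?_
    rw [← LinearMap.lTensor_comp_apply,
      show Finsupp.linearCombination B id ∘ₗ s = LinearMap.id from LinearMap.ext hs,
      LinearMap.lTensor_id, LinearMap.id_apply]
  refine hinj ((TensorProduct.finsuppScalarRight B B κ P).injective (Eq.trans ?_ (by rw [map_zero, map_zero])))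
  change TensorProduct.finsuppScalarRight B B κ P (s.lTensor κ (∑ i, c i ⊗ₜ[B] v i)) = 0
  ext a
  simp only [map_sum, LinearMap.lTensor_tmul, Finsupp.coe_finsetSum, Finset.sum_apply,
    TensorProduct.finsuppScalarRight_apply_tmul_apply, Finsupp.coe_zero, Pi.zero_apply]
  refine Eq.trans (Finset.sum_congr rfl fun i _ => ?_) (h ((Finsupp.lapply a).comp s))
  rw [Algebra.smul_def, mul_comm]
  rfl

variable [Algebra.FormallySmooth R B] (J q : Ideal B) [q.IsPrime] (hJq : J ≤ q)
  [(q.map (Ideal.Quotient.mk J)).IsPrime]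

include hJq

omit [q.IsPrime] [(q.map (Ideal.Quotient.mk J)).IsPrime] in
theorem comap_map_mk_eq : (q.map (Ideal.Quotient.mk J)).comap (Ideal.Quotient.mk J) = q := by
  rw [Ideal.comap_map_of_surjective' _ Ideal.Quotient.mk_surjective, Ideal.mk_ker, sup_eq_left]
  exact hJq

/-- Derivations with invertible Jacobian give smoothness. -/
theorem formallySmooth_of_derivations {m : ℕ} (f : Fin m → B) (D : Fin m → Derivation R B B)
    (hgen : J.map (algebraMap B (Localization.AtPrime q)) =
      Ideal.span (Set.range fun i => algebraMap B (Localization.AtPrime q) (f i)))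
    (hdet : Matrix.det (Matrix.of fun i j => D j (f i)) ∉ q) :
    Algebra.FormallySmooth R (Localization.AtPrime (q.map (Ideal.Quotient.mk J))) := by
  classical
  set S := Localization.AtPrime q
  set p := q.map (Ideal.Quotient.mk J)
  have hFE : Algebra.FormallyEtale B S := .of_isLocalization q.primeCompl
  have hFS : Algebra.FormallySmooth R S := .comp R B S
  let L₀ : Ω[B⁄R] →ₗ[B] (Fin m → S) :=
    LinearMap.pi fun j => (Algebra.linearMap B S) ∘ₗ (D j).liftKaehlerDifferential
  let L : Ω[S⁄R] →ₗ[S] (Fin m → S) :=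
    (L₀.liftBaseChange S) ∘ₗ (KaehlerDifferential.tensorKaehlerEquivOfFormallyEtale R B S).symm.toLinearMap
  have hL : ∀ i j, L (KaehlerDifferential.D R S (algebraMap B S (f i))) j =
      algebraMap B S (D j (f i)) := fun i j => by
    rw [LinearMap.comp_apply, LinearEquiv.coe_coe,
      KaehlerDifferential.tensorKaehlerEquivOfFormallyEtale_symm_D_algebraMap,
      LinearMap.liftBaseChange_tmul, one_smul]
    simp [L₀]
  have hS : Algebra.FormallySmooth R
      (S ⧸ Ideal.span (Set.range fun i => algebraMap B S (f i))) := by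
    refine Hensel.formallySmooth_quotient_of_matrix (fun i => algebraMap B S (f i)) 1
      IsIdempotentElem.one (Matrix.one_mulVec _) L ?_
    rw [Matrix.one_mul, Matrix.mul_one, sub_self, add_zero,
      show (Matrix.of fun i => L (KaehlerDifferential.D R S (algebraMap B S (f i)))) =
        (Matrix.of fun i j => D j (f i)).map (algebraMap B S) from Matrix.ext hL,
      ← RingHom.mapMatrix_apply, ← RingHom.map_det]
    exact IsLocalization.map_units S (⟨_, hdet⟩ : q.primeCompl)
  let g : S →+* Localization.AtPrime p :=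
    Localization.localRingHom q p (Ideal.Quotient.mk J) (comap_map_mk_eq J q hJq).symm
  let gₐ : S →ₐ[R] Localization.AtPrime p :=
    { toRingHom := g
      commutes' := fun r => by
        change g (algebraMap R S r) = _
        rw [IsScalarTower.algebraMap_apply R B S, Localization.localRingHom_to_map,
          IsScalarTower.algebraMap_apply R (B ⧸ J) (Localization.AtPrime p)]
        rfl }
  have hq : ∀ b, Ideal.Quotient.mk J b ∈ p ↔ b ∈ q := fun b => by
    rw [← Ideal.mem_comap, comap_map_mk_eq J q hJq]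
  have hsurj : Function.Surjective gₐ := fun z => by
    obtain ⟨a, ⟨s, hs⟩, rfl⟩ := IsLocalization.exists_mk'_eq p.primeCompl z
    obtain ⟨a, rfl⟩ := Ideal.Quotient.mk_surjective a
    obtain ⟨s, rfl⟩ := Ideal.Quotient.mk_surjective s
    exact ⟨IsLocalization.mk' S a (⟨s, fun h => hs ((hq s).2 h)⟩ : q.primeCompl),
      Localization.localRingHom_mk' q p _ (comap_map_mk_eq J q hJq).symm _ _⟩
  have hker : RingHom.ker gₐ = Ideal.span (Set.range fun i => algebraMap B S (f i)) := by
    rw [← hgen]
    refine le_antisymm (fun z hz => ?_) (Ideal.map_le_iff_le_comap.2 fun x hx => ?_)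
    · obtain ⟨a, ⟨s, hs⟩, rfl⟩ := IsLocalization.exists_mk'_eq q.primeCompl z
      have hz' : g (IsLocalization.mk' S a (⟨s, hs⟩ : q.primeCompl)) = 0 := hz
      rw [Localization.localRingHom_mk', IsLocalization.mk'_eq_zero_iff] at hz'
      obtain ⟨⟨u, hu⟩, hu'⟩ := hz'
      obtain ⟨u, rfl⟩ := Ideal.Quotient.mk_surjective u
      rw [← map_mul, Ideal.Quotient.eq_zero_iff_mem] at hu'
      rw [IsLocalization.mk'_mem_map_algebraMap_iff]
      exact ⟨u, fun h => hu ((hq u).2 h), hu'⟩
    · rw [Ideal.mem_comap, RingHom.mem_ker]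
      change g (algebraMap B S x) = 0
      rw [Localization.localRingHom_to_map, Ideal.Quotient.eq_zero_iff_mem.2 hx, map_zero]
  exact Algebra.FormallySmooth.of_equiv ((Ideal.quotientEquivAlgOfEq R hker.symm).trans
    (Ideal.quotientKerAlgEquivOfSurjective hsurj))

/-- Smoothness gives derivations with invertible Jacobian. -/
theorem exists_derivations [IsNoetherianRing B]
    [Algebra.FormallySmooth R (Localization.AtPrime (q.map (Ideal.Quotient.mk J)))] :
    ∃ (m : ℕ) (f : Fin m → B) (D : Fin m → Derivation R B B), (∀ i, f i ∈ J) ∧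
      J.map (algebraMap B (Localization.AtPrime q)) =
        Ideal.span (Set.range fun i => algebraMap B (Localization.AtPrime q) (f i)) ∧
      Matrix.det (Matrix.of fun i j => D j (f i)) ∉ q := by
  classical
  set p := q.map (Ideal.Quotient.mk J)
  let κ := p.ResidueField
  have hκ : ∀ b, algebraMap B κ b = 0 ↔ b ∈ q := fun b => by
    rw [IsScalarTower.algebraMap_apply B (B ⧸ J) κ, Ideal.algebraMap_residueField_eq_zero,
      Ideal.Quotient.algebraMap_eq, ← Ideal.mem_comap, comap_map_mk_eq J q hJq]
  have : Module.Finite B (RingHom.ker (algebraMap B (B ⧸ J))).Cotangent :=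
    Module.Finite.of_surjective _ (Ideal.toCotangent_surjective _)
  have hinj := ((tfae_formallySmooth_localization (A := R) (Ideal.Quotient.mk_surjective (I := J)) p).out
    0 1).1 ‹_›
  have hkerJ : RingHom.ker (algebraMap B (B ⧸ J)) = J := Ideal.mk_ker
  let T := (KaehlerDifferential.kerCotangentToTensor R B (B ⧸ J)).baseChange κ
  have hTinj : Function.Injective T := hinj
  let cls : ∀ x ∈ J, κ ⊗[B] (RingHom.ker (algebraMap B (B ⧸ J))).Cotangent := fun x hx =>
    (1 : κ) ⊗ₜ[B] Ideal.toCotangent _ ⟨x, hkerJ.ge hx⟩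
  obtain ⟨N, g, hg⟩ := Submodule.fg_iff_exists_fin_generating_family.1 (IsNoetherian.noetherian J)
  have hgJ : ∀ i, g i ∈ J := fun i => hg ▸ Submodule.subset_span ⟨i, rfl⟩
  obtain ⟨ι, a, ha, hspan, hli⟩ := exists_linearIndependent' κ fun i => T (cls (g i) (hgJ i))
  have := Fintype.ofInjective a ha
  let e := Fintype.equivFin ι
  let f : Fin (Fintype.card ι) → B := fun i => g (a (e.symm i))
  have hfJ : ∀ i, f i ∈ J := fun i => hgJ _
  have hli' : LinearIndependent κ fun i => T (cls (f i) (hfJ i)) := hli.comp e.symm e.symm.injective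
  -- the selected classes generate
  have hsel : ∀ i, cls (g i) (hgJ i) ∈ Submodule.span κ (Set.range fun i => cls (f i) (hfJ i)) := by
    intro i
    have h1 : T (cls (g i) (hgJ i)) ∈
        (Submodule.span κ (Set.range fun i => cls (f i) (hfJ i))).map T := by
      rw [Submodule.map_span, ← Set.range_comp]
      have h2 := hspan.ge (Submodule.subset_span (Set.mem_range_self i))
      refine Submodule.span_mono ?_ h2
      rintro _ ⟨j, rfl⟩
      exact ⟨e j, by simp [f]⟩
    obtain ⟨z, hz, hzeq⟩ := h1
    rwa [← hTinj hzeq]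
  -- so they generate `J` at `q`
  let N₀ : Submodule B J := Submodule.span B (Set.range fun i => (⟨f i, hfJ i⟩ : J))
  let Q := (J : Type u) ⧸ N₀
  have hQ : Subsingleton (κ ⊗[B] Q) := by
    let ψ : (RingHom.ker (algebraMap B (B ⧸ J))).Cotangent →ₗ[B] κ ⊗[B] Q :=
      Ideal.Cotangent.lift
        ((TensorProduct.mk B κ Q 1) ∘ₗ N₀.mkQ ∘ₗ Submodule.inclusion hkerJ.le)
        fun x y => by
          have hx : (x : B) ∈ q := hJq (hkerJ.le x.2)
          have e1 : Submodule.inclusion hkerJ.le (x * y) =
              (x : B) • (⟨y, hkerJ.le y.2⟩ : J) := Subtype.ext rfl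
          rw [LinearMap.comp_apply, LinearMap.comp_apply, e1, map_smul, TensorProduct.mk_apply,
            TensorProduct.tmul_smul, TensorProduct.smul_tmul', Algebra.smul_def, (hκ _).2 hx, zero_mul,
            TensorProduct.zero_tmul]
    let Ψ := ψ.liftBaseChange κ
    have hΨ : ∀ x (hx : x ∈ J), Ψ (cls x hx) = (1 : κ) ⊗ₜ[B] N₀.mkQ ⟨x, hx⟩ := fun x hx => by
      simp only [Ψ, cls, LinearMap.liftBaseChange_tmul, one_smul, ψ]
      exact Ideal.Cotangent.lift_toCotangent _ _ _
    have hg0 : ∀ i, (1 : κ) ⊗ₜ[B] N₀.mkQ ⟨g i, hgJ i⟩ = 0 := fun i => by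
      rw [← hΨ _ (hgJ i)]
      refine (Submodule.span_le (p := LinearMap.ker Ψ)).2 ?_ (hsel i)
      rintro _ ⟨j, rfl⟩
      rw [SetLike.mem_coe, LinearMap.mem_ker, hΨ _ (hfJ j),
        show N₀.mkQ ⟨f j, hfJ j⟩ = 0 from (Submodule.Quotient.mk_eq_zero _).2
          (Submodule.subset_span (Set.mem_range_self j)), TensorProduct.tmul_zero]
    refine subsingleton_of_forall_eq 0 fun z => ?_
    induction z using TensorProduct.induction_on with
    | zero => rfl
    | add x y hx hy => rw [hx, hy, add_zero]
    | tmul c x =>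
      obtain ⟨⟨x, hx⟩, rfl⟩ := N₀.mkQ_surjective x
      obtain ⟨r, hr⟩ := (Submodule.mem_span_range_iff_exists_fun B).1 (hg.ge hx)
      rw [show (⟨x, hx⟩ : J) = ∑ i, r i • ⟨g i, hgJ i⟩ from Subtype.ext (by simpa using hr.symm),
        map_sum, TensorProduct.tmul_sum]
      refine Finset.sum_eq_zero fun i _ => ?_
      rw [show c ⊗ₜ[B] N₀.mkQ (r i • ⟨g i, hgJ i⟩) =
        c • ((1 : κ) ⊗ₜ[B] N₀.mkQ (r i • ⟨g i, hgJ i⟩)) by
          rw [TensorProduct.smul_tmul', smul_eq_mul, mul_one],
        map_smul, TensorProduct.tmul_smul, hg0, smul_zero, smul_zero]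
  have hgen : ∀ x ∈ J, ∃ s ∉ q, s * x ∈ Ideal.span (Set.range f) := by
    intro x hx
    have : Module.Finite B Q := inferInstance
    let φ : q.ResidueField →ₐ[B] κ :=
      Ideal.ResidueField.mapₐ q p (Algebra.ofId B (B ⧸ J)) (comap_map_mk_eq J q hJq).symm
    let _ : Algebra q.ResidueField κ := φ.toRingHom.toAlgebra
    have : IsScalarTower B q.ResidueField κ := IsScalarTower.of_algebraMap_eq fun b => (φ.commutes b).symm
    have hns : ¬ (⟨q, inferInstance⟩ : PrimeSpectrum B) ∈ Module.support B Q := by
      rw [Module.mem_support_iff_nontrivial_residueField_tensorProduct, not_nontrivial_iff_subsingleton]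
      have := (AlgebraTensorModule.cancelBaseChange B q.ResidueField κ κ Q).toEquiv.subsingleton
      exact subsingleton_of_forall_eq 0 fun z =>
        (Module.FaithfullyFlat.one_tmul_eq_zero_iff q.ResidueField _ (A := κ) z).1 (Subsingleton.elim _ _)
    obtain ⟨s, hs, hs0⟩ := Module.notMem_support_iff'.1 hns (N₀.mkQ ⟨x, hx⟩)
    rw [← map_smul, Submodule.mkQ_apply, Submodule.Quotient.mk_eq_zero] at hs0
    refine ⟨s, hs, ?_⟩
    have := Submodule.mem_map_of_mem (f := Submodule.subtype J) hs0
    rw [Submodule.map_span, ← Set.range_comp] at this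
    exact this
  -- derivations
  let v : (Ω[B⁄R] →ₗ[B] B) → Fin (Fintype.card ι) → κ :=
    fun L i => algebraMap B κ (L (KaehlerDifferential.D R B (f i)))
  have htop : Submodule.span κ (Set.range v) = ⊤ := by
    by_contra hne
    obtain ⟨φ, hφ0, hφ⟩ := Submodule.exists_le_ker_of_lt_top _ (lt_top_iff_ne_top.2 hne)
    apply hφ0
    let c : Fin (Fintype.card ι) → κ := fun i => φ (Pi.single i 1)
    have hc : ∀ L, ∑ i, c i * v L i = 0 := fun L => by
      have h : φ (v L) = 0 := hφ (Submodule.subset_span (Set.mem_range_self L))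
      rw [pi_eq_sum_univ' (v L), map_sum] at h
      refine Eq.trans (Finset.sum_congr rfl fun i _ => ?_) h
      simp only [map_smul, smul_eq_mul, c]
      rw [mul_comm]
    have h1 := congrArg ((TensorProduct.mk B (B ⧸ J) Ω[B⁄R] 1).baseChange κ)
      (sum_smul_tmul_eq_zero (fun i => KaehlerDifferential.D R B (f i)) c hc)
    have h2 : ∑ i, c i • T (cls (f i) (hfJ i)) = 0 := by
      rw [map_sum, map_zero] at h1
      refine Eq.trans (Finset.sum_congr rfl fun i _ => ?_) h1
      simp only [T, cls, LinearMap.baseChange_tmul, TensorProduct.smul_tmul', smul_eq_mul, mul_one]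
      exact congrArg _ (KaehlerDifferential.kerCotangentToTensor_toCotangent R B (B ⧸ J) ⟨f i, _⟩)
    refine LinearMap.pi_ext' fun i => LinearMap.ext_ring ?_
    simpa [c] using Fintype.linearIndependent_iff.1 hli' c h2 i
  obtain ⟨ι', b, hb, hspan', hli''⟩ := exists_linearIndependent' κ v
  let bas := Module.Basis.mk hli'' (by rw [hspan', htop])
  have : Fintype ι' := FiniteDimensional.fintypeBasisIndex bas
  have hcard : Fintype.card ι' = Fintype.card ι := by
    rw [← Module.finrank_eq_card_basis bas, Module.finrank_fin_fun]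
  let e' : Fin (Fintype.card ι) ≃ ι' := (Fintype.equivFinOfCardEq hcard).symm
  refine ⟨_, f, fun j => (b (e' j)).compDer (KaehlerDifferential.D R B), hfJ, ?_, ?_⟩
  · refine le_antisymm (Ideal.map_le_iff_le_comap.2 fun x hx => ?_) (Ideal.span_le.2 ?_)
    · obtain ⟨s, hs, hsx⟩ := hgen x hx
      have := Ideal.mem_map_of_mem (algebraMap B (Localization.AtPrime q)) hsx
      rw [Ideal.map_span, ← Set.range_comp, map_mul] at this
      exact Ideal.mem_comap.2 ((Ideal.unit_mul_mem_iff_mem _
        (IsLocalization.map_units (Localization.AtPrime q) (⟨s, hs⟩ : q.primeCompl))).1 this)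
    · rintro _ ⟨i, rfl⟩
      exact Ideal.mem_map_of_mem _ (hfJ i)
  · intro h
    rw [← hκ, RingHom.map_det] at h
    refine (Matrix.linearIndependent_cols_iff_isUnit.1 ?_ |>.map (Matrix.detMonoidHom)).ne_zero h
    exact hli''.comp e' e'.injective

theorem formallySmooth_localization_iff_derivations [IsNoetherianRing B] :
    Algebra.FormallySmooth R (Localization.AtPrime (q.map (Ideal.Quotient.mk J))) ↔
      ∃ (m : ℕ) (f : Fin m → B) (D : Fin m → Derivation R B B), (∀ i, f i ∈ J) ∧
        J.map (algebraMap B (Localization.AtPrime q)) =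
          Ideal.span (Set.range fun i => algebraMap B (Localization.AtPrime q) (f i)) ∧
        Matrix.det (Matrix.of fun i j => D j (f i)) ∉ q :=
  ⟨fun _ => exists_derivations J q hJq,
    fun ⟨_, f, D, _, hgen, hdet⟩ => formallySmooth_of_derivations J q hJq f D hgen hdet⟩

end GrothLib.SplitInj
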